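import Groth.Agent.S17765
import Groth.Agent.SerreReg.Descent
import Groth.Agent.RegIdeal.FreeSummand
import Mathlib

/-!
For a prime `p` of height `r` in a regular local ring, the colon ideal of a regular sequence of length `r`
generating `p` locally embeds `Hom(B/p, B/(x))` as an ideal of `B/p` with unmixed height one quotient.
-/

set_option autoImplicit false
set_option linter.style.haveILetI false
set_option backward.isDefEq.respectTransparency false

universe u

open IsLocalRing RingTheory.Sequence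

namespace Groth.Agent.CanonIdeal

variable {B : Type u} [CommRing B] [IsRegularLocalRing B]

theorem ass_height_le (xs : List B) (hreg : IsWeaklyRegular B xs) (hm : ∀ a ∈ xs, a ∈ maximalIdeal B) (q : Ideal B)
    (hq : q ∈ associatedPrimes B (B ⧸ Ideal.ofList xs)) : q.height ≤ xs.length := by
  have htop : (⊤ : Submodule B B) ≠ Ideal.ofList xs • ⊤ := by
    intro h
    have h1 : Ideal.ofList xs ≤ maximalIdeal B := Ideal.span_le.2 hm
    rw [smul_eq_mul, Ideal.mul_top] at h
    exact (IsLocalRing.maximalIdeal.isMaximal B).ne_top (top_le_iff.1 (h.le.trans h1))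
  have hpd : CategoryTheory.projectiveDimension (ModuleCat.of B (B ⧸ Ideal.ofList xs)) ≤ xs.length := by
    rw [← CategoryTheory.projectiveDimension_eq_of_iso
      (Shrink.linearEquiv B (B ⧸ Ideal.ofList xs)).toModuleIso]
    exact le_of_eq (ModuleCat.projectiveDimension_quotient_eq_length xs ⟨hreg, htop⟩)
  exact S17765.result B (B ⧸ Ideal.ofList xs) q hq xs.length
    ((CategoryTheory.projectiveDimension_le_iff _ _).1 hpd)

/-- Find an element in a coset regular on a quotient by a regular sequence. -/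
theorem exists_regular_coset (xs : List B) (hreg : IsWeaklyRegular B xs) (hm : ∀ a ∈ xs, a ∈ maximalIdeal B)
    (I : Ideal B) (hI : ∀ q : Ideal B, q.IsPrime → q.height ≤ xs.length → ¬ I ≤ q) (u₀ : B) :
    ∃ k ∈ I, ∀ v : B, (u₀ + k) * v ∈ Ideal.ofList xs → v ∈ Ideal.ofList xs := by
  classical
  have hfin := associatedPrimes.finite B (B ⧸ Ideal.ofList xs)
  let s : Finset (PrimeSpectrum B) := hfin.toFinset.attach.image fun q =>
    ⟨q.1, (AssociatedPrimes.mem_iff.1 (hfin.mem_toFinset.1 q.2)).isPrime⟩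
  obtain ⟨k, hk, hks⟩ := RegIdeal.coset_avoid I u₀ s (fun q hq _ => by
    obtain ⟨⟨q₀, hq₀⟩, -, rfl⟩ := Finset.mem_image.1 hq
    have := hI q₀ (AssociatedPrimes.mem_iff.1 (hfin.mem_toFinset.1 hq₀)).isPrime
      (ass_height_le xs hreg hm q₀ (hfin.mem_toFinset.1 hq₀))
    exact SetLike.not_le_iff_exists.1 this)
  refine ⟨k, hk, fun v hv => ?_⟩
  have hr : IsSMulRegular (B ⧸ Ideal.ofList xs) (u₀ + k) := by
    by_contra hns
    have h1 : u₀ + k ∈ ({r : B | IsSMulRegular (B ⧸ Ideal.ofList xs) r}ᶜ : Set B) := hns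
    rw [← biUnion_associatedPrimes_eq_compl_regular] at h1
    obtain ⟨q, hq, hqk⟩ := Set.mem_iUnion₂.1 h1
    exact hks ⟨q, (AssociatedPrimes.mem_iff.1 hq).isPrime⟩
      (Finset.mem_image.2 ⟨⟨q, hfin.mem_toFinset.2 hq⟩, Finset.mem_attach _ _, rfl⟩) hqk
  rw [← Ideal.Quotient.eq_zero_iff_mem] at hv ⊢
  refine hr ?_
  show (u₀ + k) • (Ideal.Quotient.mk (Ideal.ofList xs) v) = (u₀ + k) • (0 : B ⧸ Ideal.ofList xs)
  rw [smul_zero, Algebra.smul_def, Ideal.Quotient.algebraMap_eq, ← map_mul]
  exact hv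

theorem isWeaklyRegular_concat (xs : List B) (a : B) (hreg : IsWeaklyRegular B xs)
    (ha : ∀ v : B, a * v ∈ Ideal.ofList xs → v ∈ Ideal.ofList xs) : IsWeaklyRegular B (xs ++ [a]) := by
  rw [isWeaklyRegular_append_iff, isWeaklyRegular_cons_iff]
  refine ⟨hreg, ?_, IsWeaklyRegular.nil _ _⟩
  have h : ∀ q : B ⧸ (Ideal.ofList xs • ⊤ : Submodule B B), a • q = 0 → q = 0 := by
    intro q hq
    obtain ⟨v, rfl⟩ := Submodule.Quotient.mk_surjective _ q
    rw [← Submodule.Quotient.mk_smul, Submodule.Quotient.mk_eq_zero, smul_eq_mul, smul_eq_mul, Ideal.mul_top] at hq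
    rw [Submodule.Quotient.mk_eq_zero, smul_eq_mul, Ideal.mul_top]
    exact ha v hq
  exact isSMulRegular_iff_right_eq_zero_of_smul.2 h

/-- A regular sequence of length the height of `p`, inside `p`, generating `p` at `p`. -/
theorem exists_regular_gens (p : Ideal B) [p.IsPrime] (r : ℕ) (hr : p.height = r) :
    ∃ xs : List B, IsWeaklyRegular B xs ∧ xs.length = r ∧ Ideal.ofList xs ≤ p ∧
      ∀ u ∈ p, ∃ s ∉ p, s * u ∈ Ideal.ofList xs := by
  classical
  let L := Localization.AtPrime p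
  haveI : IsRegularLocalRing L := SerreReg.isRegularLocalRing_localization B p
  have hdim : ringKrullDim L = (r : WithBot ℕ∞) := by
    rw [IsLocalization.AtPrime.ringKrullDim_eq_height p L, hr]; rfl
  have hrank : (maximalIdeal L).spanFinrank = r := by
    have := IsRegularLocalRing.spanFinrank_maximalIdeal (R := L)
    rw [hdim] at this
    exact_mod_cast this
  obtain ⟨G, hGc, hG⟩ := Submodule.FG.exists_span_finset_card_eq_spanFinrank (IsNoetherian.noetherian (maximalIdeal L))
  rw [hrank] at hGc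
  let g : ℕ → L := fun j => if h : j < G.card then (G.equivFin.symm ⟨j, h⟩ : L) else 0
  have hgm : ∀ j, g j ∈ maximalIdeal L := fun j => by
    by_cases h : j < G.card
    · simp only [g, dif_pos h]
      exact hG ▸ Submodule.subset_span (Subtype.coe_prop _)
    · simp only [g, dif_neg h]
      exact zero_mem _
  have hy : ∀ j, ∃ y ∈ p, ∃ t : p.primeCompl, g j * algebraMap B L t = algebraMap B L y := fun j => by
    obtain ⟨b, t, hbt⟩ := IsLocalization.exists_mk'_eq p.primeCompl (g j)
    refine ⟨b, (IsLocalization.AtPrime.mk'_mem_maximal_iff L p b t).1 (hbt ▸ hgm j), t, ?_⟩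
    rw [← hbt, IsLocalization.mk'_spec]
  choose y hyp t hyt using hy
  have hI : ∀ i, i < r → ∀ q : Ideal B, q.IsPrime → q.height ≤ i → ¬ p ^ 2 ≤ q := fun i hi q hq hqi hle => by
    have h1 : p ≤ q := Ideal.IsPrime.le_of_pow_le (n := 2) hle
    have h2 := (Ideal.height_mono h1).trans hqi
    rw [hr, Nat.cast_le] at h2
    omega
  have key : ∀ i, i ≤ r → ∃ x : ℕ → B, (∀ j, j < i → x j ∈ p ∧ x j - y j ∈ p ^ 2) ∧
      IsWeaklyRegular B ((List.range i).map x) := by
    intro i hi
    induction i with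
    | zero => exact ⟨y, fun j hj => absurd hj (Nat.not_lt_zero j), by simpa using IsWeaklyRegular.nil B B⟩
    | succ i ih =>
      obtain ⟨x, hx, hxreg⟩ := ih (Nat.le_of_succ_le hi)
      obtain ⟨k, hk, hkreg⟩ := exists_regular_coset ((List.range i).map x) hxreg (fun a ha => by
        obtain ⟨j, hj, rfl⟩ := List.mem_map.1 ha
        exact IsLocalRing.le_maximalIdeal (Ideal.IsPrime.ne_top ‹p.IsPrime›) (hx j (List.mem_range.1 hj)).1)
        (p ^ 2) (fun q hq hqi => hI i hi q hq (by simpa using hqi)) (y i)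
      refine ⟨Function.update x i (y i + k), fun j hj => ?_, ?_⟩
      · rcases Nat.lt_succ_iff_lt_or_eq.1 hj with hj | rfl
        · rw [Function.update_of_ne (by omega)]
          exact hx j hj
        · rw [Function.update_self, add_sub_cancel_left]
          exact ⟨add_mem (hyp j) (Ideal.pow_le_self two_ne_zero hk), hk⟩
      · rw [List.range_succ, List.map_append, List.map_singleton, Function.update_self,
          List.map_congr_left (g := x) fun j hj => Function.update_of_ne (List.mem_range.1 hj).ne _ _]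
        exact isWeaklyRegular_concat _ _ hxreg hkreg
  obtain ⟨x, hx, hreg⟩ := key r le_rfl
  refine ⟨(List.range r).map x, hreg, by simp, Ideal.span_le.2 fun a ha => ?_, fun u hu => ?_⟩
  · obtain ⟨j, hj, rfl⟩ := List.mem_map.1 ha
    exact (hx j (List.mem_range.1 hj)).1
  let X : Ideal L := (Ideal.ofList ((List.range r).map x)).map (algebraMap B L)
  have hle : maximalIdeal L ≤ X := by
    refine Submodule.le_of_le_smul_of_le_jacobson_bot (IsNoetherian.noetherian _)
      (IsLocalRing.maximalIdeal_le_jacobson _) ?_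
    conv_lhs => rw [← hG]
    refine Ideal.span_le.2 fun a ha => ?_
    let j : ℕ := G.equivFin ⟨a, ha⟩
    have hj : j < G.card := Fin.is_lt _
    have hga : g j = a := by simp [g, j]
    obtain ⟨hxp, hxy⟩ := hx j (hGc ▸ hj)
    have h1 : algebraMap B L (y j) ∈ X ⊔ maximalIdeal L • maximalIdeal L := by
      rw [show y j = x j - (x j - y j) by ring, map_sub]
      refine Submodule.sub_mem_sup (Ideal.mem_map_of_mem _ (Ideal.subset_span (List.mem_map.2 ⟨j, List.mem_range.2 (hGc ▸ hj), rfl⟩))) ?_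
      rw [smul_eq_mul, ← pow_two, ← IsLocalization.AtPrime.map_eq_maximalIdeal p L, ← Ideal.map_pow]
      exact Ideal.mem_map_of_mem _ hxy
    rw [← hga, SetLike.mem_coe]
    rw [← hyt] at h1
    exact (Ideal.mul_unit_mem_iff_mem _ (IsLocalization.map_units L (t j))).1 h1
  have hu' : algebraMap B L u ∈ X := hle (by
    rw [← IsLocalization.AtPrime.map_eq_maximalIdeal p L]; exact Ideal.mem_map_of_mem _ hu)
  obtain ⟨s, hs, hsu⟩ := (IsLocalization.algebraMap_mem_map_algebraMap_iff p.primeCompl L _ u).1 hu'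
  exact ⟨s, hs, hsu⟩

/-- The ideal of values at one. -/
theorem exists_ideal (p : Ideal B) [p.IsPrime] (r : ℕ) (hr : p.height = r) :
    ∃ xs : List B, IsWeaklyRegular B xs ∧ xs.length = r ∧ (∀ a ∈ xs, a ∈ p) ∧
      ∃ I : Ideal (B ⧸ p),
        Nonempty (((B ⧸ p) →ₗ[B] B ⧸ (Ideal.ofList xs • ⊤ : Submodule B B)) ≃ₗ[B] I) ∧
        ∀ q ∈ associatedPrimes (B ⧸ p) ((B ⧸ p) ⧸ I), q.height = 1 := by
  classical
  obtain ⟨xs, hreg, hlen, hxp, hgen⟩ := exists_regular_gens p r hr
  refine ⟨xs, hreg, hlen, fun a ha => hxp (Ideal.subset_span ha), ?_⟩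
  let K := Ideal.ofList xs
  have hK : (K • ⊤ : Submodule B B) = K := by rw [smul_eq_mul, Ideal.mul_top]
  have hm : ∀ a ∈ xs, a ∈ maximalIdeal B := fun a ha =>
    IsLocalRing.le_maximalIdeal (Ideal.IsPrime.ne_top ‹_›) (hxp (Ideal.subset_span ha))
  -- one element killing `p` modulo `K`
  obtain ⟨s, hsp, hs⟩ : ∃ s ∉ p, ∀ u ∈ p, s * u ∈ K := by
    obtain ⟨G, hG⟩ : p.FG := IsNoetherian.noetherian p
    choose t ht htu using fun g : G => hgen g (hG ▸ Submodule.subset_span g.2)
    refine ⟨∏ g, t g, fun h => ?_, fun u hu => ?_⟩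
    · obtain ⟨g, -, hg⟩ := Ideal.IsPrime.prod_mem_iff.1 h
      exact ht g hg
    rw [← hG] at hu
    induction hu using Submodule.span_induction with
    | mem g hg =>
      obtain ⟨c, hc⟩ := Finset.dvd_prod_of_mem t (Finset.mem_univ ⟨g, hg⟩)
      rw [hc, mul_right_comm]
      exact Ideal.mul_mem_right _ _ (htu ⟨g, hg⟩)
    | zero => rw [mul_zero]; exact zero_mem _
    | add a b _ _ ha hb => rw [mul_add]; exact add_mem ha hb
    | smul c a _ ha => rw [smul_eq_mul, mul_left_comm]; exact Ideal.mul_mem_left _ _ ha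
  -- the key injectivity
  have hkey : ∀ u ∈ p, (∀ v ∈ p, v * u ∈ K) → u ∈ K := by
    intro u hu hv
    by_contra hc
    have hne : (Ideal.Quotient.mk K u : B ⧸ K) ≠ 0 := fun h => hc (Ideal.Quotient.eq_zero_iff_mem.1 h)
    obtain ⟨q, hq, hle⟩ := exists_le_isAssociatedPrime_of_isNoetherianRing B (Ideal.Quotient.mk K u) hne
    have hmem : ∀ v, v * u ∈ K → v ∈ q := fun v hv' => hle (by
      rw [Submodule.mem_colon_singleton, Submodule.mem_bot, Algebra.smul_def, Ideal.Quotient.algebraMap_eq,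
        ← map_mul, Ideal.Quotient.eq_zero_iff_mem]
      exact hv')
    have h1 : p < q := lt_of_le_of_ne (fun v hv' => hmem v (hv v hv'))
      fun h => hsp (h ▸ hmem s (hs u hu))
    haveI := hq.isPrime
    haveI : p.FiniteHeight := Ideal.finiteHeight_of_isNoetherianRing p
    have h2 := (Ideal.height_strict_mono_of_isPrime h1).trans_le (ass_height_le xs hreg hm q hq)
    rw [hr, hlen] at h2
    exact lt_irrefl _ h2
  let fac : (B ⧸ (K • ⊤ : Submodule B B)) →ₗ[B] B ⧸ p := Submodule.factor (by rw [hK]; exact hxp)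
  let φ : ((B ⧸ p) →ₗ[B] B ⧸ (K • ⊤ : Submodule B B)) →ₗ[B] B ⧸ p :=
    fac ∘ₗ (LinearMap.applyₗ (Ideal.Quotient.mk p 1))
  have hcolon : ∀ (f : (B ⧸ p) →ₗ[B] B ⧸ (K • ⊤ : Submodule B B)), ∀ u : B,
      f (Ideal.Quotient.mk p 1) = Submodule.Quotient.mk u → ∀ v ∈ p, v * u ∈ K := by
    intro f u hu v hv
    have h1 : f (v • Ideal.Quotient.mk p 1) = 0 := by
      rw [show v • Ideal.Quotient.mk p (1 : B) = Ideal.Quotient.mk p v by
        rw [Algebra.smul_def, Ideal.Quotient.algebraMap_eq, ← map_mul, mul_one],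
        Ideal.Quotient.eq_zero_iff_mem.2 hv, map_zero]
    rw [map_smul, hu, ← Submodule.Quotient.mk_smul, Submodule.Quotient.mk_eq_zero, hK] at h1
    exact h1
  have hφ : ∀ f (u : B), f (Ideal.Quotient.mk p 1) = Submodule.Quotient.mk u → φ f = Ideal.Quotient.mk p u := by
    intro f u hu
    show fac (f (Ideal.Quotient.mk p 1)) = _
    rw [hu]; rfl
  have hinj : Function.Injective φ := by
    rw [injective_iff_map_eq_zero]
    intro f hf
    obtain ⟨u, hu⟩ := Submodule.Quotient.mk_surjective _ (f (Ideal.Quotient.mk p 1))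
    rw [hφ f u hu.symm, Ideal.Quotient.eq_zero_iff_mem] at hf
    have h0 : f (Ideal.Quotient.mk p 1) = 0 := by
      rw [← hu, Submodule.Quotient.mk_eq_zero, hK]
      exact hkey u hf (hcolon f u hu.symm)
    refine LinearMap.ext fun z => ?_
    obtain ⟨b, rfl⟩ := Ideal.Quotient.mk_surjective z
    rw [show Ideal.Quotient.mk p b = b • Ideal.Quotient.mk p (1 : B) by
        rw [Algebra.smul_def, Ideal.Quotient.algebraMap_eq, ← map_mul, mul_one],
      map_smul, h0, smul_zero, LinearMap.zero_apply]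
  let I : Ideal (B ⧸ p) :=
    { carrier := Set.range φ
      add_mem' := fun {a b} ha hb => by
        obtain ⟨f, rfl⟩ := ha
        obtain ⟨g, rfl⟩ := hb
        exact ⟨f + g, map_add φ f g⟩
      zero_mem' := ⟨0, map_zero φ⟩
      smul_mem' := fun c a ha => by
        obtain ⟨f, rfl⟩ := ha
        obtain ⟨b, rfl⟩ := Ideal.Quotient.mk_surjective c
        exact ⟨b • f, (map_smul φ b f).trans (Algebra.smul_def b (φ f))⟩ }
  have hmemI : ∀ u : B, (∀ v ∈ p, v * u ∈ K) → Ideal.Quotient.mk p u ∈ I := by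
    intro u hu
    let f : (B ⧸ p) →ₗ[B] B ⧸ (K • ⊤ : Submodule B B) :=
      Submodule.liftQ p (LinearMap.toSpanSingleton B _ (Submodule.Quotient.mk u)) fun v hv => by
        rw [LinearMap.mem_ker, LinearMap.toSpanSingleton_apply, ← Submodule.Quotient.mk_smul,
          Submodule.Quotient.mk_eq_zero, hK]
        exact hu v hv
    refine ⟨f, hφ f u ?_⟩
    show (1 : B) • (Submodule.Quotient.mk u : B ⧸ (K • ⊤ : Submodule B B)) = _
    rw [one_smul]
  refine ⟨I, ⟨(LinearEquiv.ofInjective φ hinj).trans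
    { toFun := fun x => ⟨x.1, x.2⟩
      map_add' := fun _ _ => rfl
      map_smul' := fun _ _ => rfl
      invFun := fun x => ⟨x.1, x.2⟩
      left_inv := fun _ => rfl
      right_inv := fun _ => rfl }⟩, fun q hq => ?_⟩
  -- unmixedness
  rw [AssociatedPrimes.mem_iff, isAssociatedPrime_iff] at hq
  obtain ⟨hqprime, z, hz⟩ := hq
  haveI := hqprime
  obtain ⟨z, rfl⟩ := Ideal.Quotient.mk_surjective z
  have hqz : ∀ c, c ∈ q ↔ c * z ∈ I := fun c => by
    rw [hz, Submodule.mem_colon_singleton, Submodule.mem_bot]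
    exact Ideal.Quotient.eq_zero_iff_mem (a := c * z)
  have hzI : z ∉ I := fun h => hqprime.ne_top (Ideal.eq_top_iff_one _ |>.2 ((hqz 1).2 (by rwa [one_mul])))
  have hsI : Ideal.Quotient.mk p s ∈ I := hmemI s fun v hv => by rw [mul_comm]; exact hs v hv
  have hq0 : q ≠ ⊥ := fun h => by
    have h1 : Ideal.Quotient.mk p s ∈ q := (hqz _).2 (I.mul_mem_right _ hsI)
    rw [h, Submodule.mem_bot, Ideal.Quotient.eq_zero_iff_mem] at h1
    exact hsp h1
  refine le_antisymm ?_ ?_
  · rw [← Nat.cast_one, Ideal.height_le_iff]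
    intro q' hq'p hlt
    haveI := hq'p
    rw [Nat.cast_one, Order.lt_one_iff_nonpos, nonpos_iff_eq_zero, Ideal.height_eq_zero_iff_eq_bot]
    by_contra hne
    let Q := q.comap (Ideal.Quotient.mk p)
    let Q' := q'.comap (Ideal.Quotient.mk p)
    have h₁ : p < Q' := by
      refine lt_of_le_of_ne (fun v hv => ?_) fun h => hne (le_bot_iff.1 fun c hc => ?_)
      · show Ideal.Quotient.mk p v ∈ q'
        rw [Ideal.Quotient.eq_zero_iff_mem.2 hv]; exact zero_mem _
      · obtain ⟨v, rfl⟩ := Ideal.Quotient.mk_surjective c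
        have hv : v ∈ Q' := hc
        rw [← h] at hv
        rw [Ideal.Quotient.eq_zero_iff_mem.2 hv]; exact zero_mem _
    have h₂ : Q' < Q := by
      refine lt_of_le_of_ne (Ideal.comap_mono hlt.le) fun h => hlt.ne ?_
      exact Ideal.comap_injective_of_surjective _ Ideal.Quotient.mk_surjective h
    haveI : p.FiniteHeight := Ideal.finiteHeight_of_isNoetherianRing p
    haveI : Q'.IsPrime := Ideal.comap_isPrime _ _
    haveI : Q'.FiniteHeight := Ideal.finiteHeight_of_isNoetherianRing Q'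
    haveI : Q.IsPrime := Ideal.comap_isPrime _ _
    have hht : ((r + 2 : ℕ) : ℕ∞) ≤ Q.height := by
      have e1 := Ideal.height_strict_mono_of_isPrime h₁
      have e2 := Ideal.height_strict_mono_of_isPrime h₂
      rw [hr] at e1
      have e3 : ((r + 1 : ℕ) : ℕ∞) ≤ Q'.height := by
        rw [Nat.cast_add, Nat.cast_one]; exact Order.add_one_le_of_lt e1
      calc ((r + 2 : ℕ) : ℕ∞) = ((r + 1 : ℕ) : ℕ∞) + 1 := by norm_cast
        _ ≤ Q'.height + 1 := by gcongr
        _ ≤ Q.height := Order.add_one_le_of_lt e2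
    have hQ : ∀ (n : ℕ), n < r + 2 → ∀ q₀ : Ideal B, q₀.IsPrime → q₀.height ≤ n → ¬ Q ≤ q₀ :=
      fun n hn q₀ _ hle hQq => by
        have h3 := (hht.trans (Ideal.height_mono hQq)).trans hle
        rw [Nat.cast_le] at h3
        omega
    obtain ⟨a, haQ, ha⟩ := exists_regular_coset xs hreg hm Q (fun q₀ h h' => hQ _ (by omega) q₀ h h') 0
    simp only [zero_add] at ha
    have hap : a ∉ p := fun h => hsp (hxp (ha s (by rw [mul_comm]; exact hs a h)))
    have hm' : ∀ b ∈ xs ++ [a], b ∈ maximalIdeal B := by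
      intro b hb
      rcases List.mem_append.1 hb with hb | hb
      · exact hm b hb
      · rw [List.mem_singleton.1 hb]
        exact IsLocalRing.le_maximalIdeal (Ideal.IsPrime.ne_top ‹Q.IsPrime›) haQ
    obtain ⟨y, hyQ, hy⟩ := exists_regular_coset (xs ++ [a]) (isWeaklyRegular_concat xs a hreg ha) hm' Q
      (fun q₀ h h' => hQ _ (by simp [hlen]) q₀ h h') 0
    simp only [zero_add] at hy
    have hKa : Ideal.ofList (xs ++ [a]) = K ⊔ Ideal.span {a} := by
      rw [Ideal.ofList_append, Ideal.ofList_singleton]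
    obtain ⟨z₀, rfl⟩ := Ideal.Quotient.mk_surjective z
    obtain ⟨f, hf⟩ := (hqz _).1 (show Ideal.Quotient.mk p a ∈ q from haQ)
    obtain ⟨g, hg⟩ := (hqz _).1 (show Ideal.Quotient.mk p y ∈ q from hyQ)
    obtain ⟨u, hu⟩ := Submodule.Quotient.mk_surjective _ (f (Ideal.Quotient.mk p 1))
    obtain ⟨v, hv⟩ := Submodule.Quotient.mk_surjective _ (g (Ideal.Quotient.mk p 1))
    rw [hφ f u hu.symm, ← map_mul, Ideal.Quotient.eq] at hf
    rw [hφ g v hv.symm, ← map_mul, Ideal.Quotient.eq] at hg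
    have hw : y * u - a * v ∈ K := by
      refine hkey _ ?_ fun c hc => ?_
      · have : y * u - a * v = y * (u - a * z₀) - a * (v - y * z₀) := by ring
        rw [this]
        exact sub_mem (Ideal.mul_mem_left _ _ hf) (Ideal.mul_mem_left _ _ hg)
      · rw [mul_sub, mul_left_comm, mul_left_comm c a]
        exact sub_mem (Ideal.mul_mem_left _ _ (hcolon f u hu.symm c hc)) (Ideal.mul_mem_left _ _ (hcolon g v hv.symm c hc))
    have hu2 : u ∈ Ideal.ofList (xs ++ [a]) := hy u (by
      rw [hKa, show y * u = (y * u - a * v) + a * v by ring]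
      exact Submodule.add_mem_sup hw (Ideal.mem_span_singleton'.2 ⟨v, mul_comm _ _⟩))
    rw [hKa] at hu2
    obtain ⟨k, hk, w', hw', hkw⟩ := Submodule.mem_sup.1 hu2
    obtain ⟨w, rfl⟩ := Ideal.mem_span_singleton'.1 hw'
    have hwc : ∀ c ∈ p, c * w ∈ K := fun c hc => ha _ (by
      rw [show a * (c * w) = c * u - c * k by rw [← hkw]; ring]
      exact sub_mem (hcolon f u hu.symm c hc) (Ideal.mul_mem_left _ _ hk))
    have h4 : z₀ - w ∈ p := by
      refine (Ideal.IsPrime.mem_or_mem ‹p.IsPrime› ?_).resolve_left hap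
      rw [show a * (z₀ - w) = k - (u - a * z₀) by rw [← hkw]; ring]
      exact sub_mem (hxp hk) hf
    exact hzI (by rw [Ideal.Quotient.eq.2 h4]; exact hmemI w hwc)
  · rw [Order.one_le_iff_pos, pos_iff_ne_zero, Ne, Ideal.height_eq_zero_iff_eq_bot]
    exact hq0

end Groth.Agent.CanonIdeal
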