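import Groth.Agent.S5150
import Groth.Agent.Goren.Rees
import Mathlib

/-!
Rees: `Ext^n(N, M) = Hom(N, M/(x)M)` for a weakly regular sequence of length `n` killing `N`.
-/

set_option autoImplicit false
set_option linter.style.haveILetI false
set_option backward.isDefEq.respectTransparency false

universe u

open CategoryTheory Abelian

noncomputable section

namespace Groth.Agent.CanonIdeal

variable {R : Type u} [CommRing R]

theorem nonempty_ext_linearEquiv_hom (N : Type u) [AddCommGroup N] [Module R N] :
    ∀ (rs : List R) (M : Type u) [AddCommGroup M] [Module R M], RingTheory.Sequence.IsWeaklyRegular M rs →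
      (∀ a ∈ rs, ∀ v : N, a • v = 0) →
      Nonempty (Ext (ModuleCat.of R N) (ModuleCat.of R M) rs.length ≃ₗ[R]
        (N →ₗ[R] M ⧸ (Ideal.ofList rs • ⊤ : Submodule R M))) := by
  intro rs
  induction rs with
  | nil =>
    intro M _ _ _ _
    exact ⟨(Ext.linearEquiv₀ (R := R)).trans (ModuleCat.homLinearEquiv.trans
      (LinearEquiv.congrRight (Submodule.quotEquivOfEqBot _ (by rw [Ideal.ofList_nil, Submodule.bot_smul])).symm))⟩
  | cons x rs ih =>
    intro M _ _ hreg hkill
    rw [RingTheory.Sequence.isWeaklyRegular_cons_iff] at hreg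
    obtain ⟨e⟩ := ih (QuotSMulTop x M) hreg.2 (fun a ha => hkill a (List.mem_cons_of_mem _ ha))
    let k := rs.length
    let X := ModuleCat.of R N
    let S := (ModuleCat.of R M).smulShortComplex x
    have hS : S.ShortExact := IsSMulRegular.smulShortComplex_shortExact (M := ModuleCat.of R M) hreg.1
    let δ : Ext X S.X₃ k →ₗ[R] Ext X (ModuleCat.of R M) (k + 1) :=
      { toFun := fun a => a.comp hS.extClass rfl
        map_add' := fun a b => Ext.add_comp _ _ _ _
        map_smul' := fun r a => Ext.smul_comp _ _ _ _ }
    have hvan : Subsingleton (Ext X (ModuleCat.of R M) k) := by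
      refine S5150.result R (Ideal.ofList (x :: rs)) M N (x :: rs)
        ((RingTheory.Sequence.isWeaklyRegular_cons_iff M x rs).2 hreg) (fun r hr => Ideal.subset_span hr) 1 ?_ k
        (by simp [k])
      rw [pow_one, eq_bot_iff, Submodule.smul_le]
      intro r hr v _
      rw [Submodule.mem_bot]
      induction hr using Submodule.span_induction with
      | mem a ha => exact hkill a ha v
      | zero => rw [zero_smul]
      | add a b _ _ ha hb => rw [add_smul, ha, hb, add_zero]
      | smul c a _ ha => rw [smul_assoc, ha, smul_zero]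
    have hbij : Function.Bijective δ := by
      refine ⟨(injective_iff_map_eq_zero _).2 fun a ha => ?_, fun b => ?_⟩
      · obtain ⟨y, hy⟩ := Ext.covariant_sequence_exact₃ X hS a (n₁ := k + 1) rfl ha
        haveI : Subsingleton (Ext X S.X₂ k) := hvan
        rw [← hy, Subsingleton.elim y 0, Ext.zero_comp]
      · refine Ext.covariant_sequence_exact₁ X hS b ?_ rfl
        show b.comp (Ext.mk₀ (x • 𝟙 (ModuleCat.of R M))) (add_zero _) = 0
        rw [Ext.mk₀_smul, Ext.comp_smul, Ext.comp_mk₀_id]
        exact Goren.smul_ext_eq_zero (fun v => hkill x (List.mem_cons_self ..) v) b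
    exact ⟨(LinearEquiv.ofBijective δ hbij).symm.trans (e.trans
      (LinearEquiv.congrRight (Submodule.quotOfListConsSMulTopEquivQuotSMulTopInner M x rs).symm))⟩

end Groth.Agent.CanonIdeal
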